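import Cfsg.Agent.H8.U62.Group
import Cfsg.Agent.H3.Form

set_option autoImplicit false

/-!
# A quadratic space of dimension twelve over two elements with a fixed-point-free invariant
automorphism of order three is a six-dimensional hermitian space over four elements
-/

namespace Cfsg.Agent.H66.LargeFischer

open Cfsg.Agent.H8.U62
open Matrix

variable {V : Type*} [AddCommGroup V] {F : Type} [Setup F]

/-- The automorphism as an endomorphism. -/
private def wEnd (w : V ≃+ V) : AddMonoid.End V := w.toAddMonoidHom

private theorem wEnd_apply (w : V ≃+ V) (v : V) : wEnd w v = w v := rfl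

/-- The endomorphism named by two bits. -/
private def bitEnd (w : V ≃+ V) (a b : Bool) : AddMonoid.End V :=
  (bif a then (1 : AddMonoid.End V) else 0) + (bif b then wEnd w else 0)

private theorem exists_bits (x : F) : ∃ p : Bool × Bool, x = fe Setup.om p.1 p.2 := by
  obtain ⟨a, b, h⟩ := Setup.exists_fe x
  exact ⟨(a, b), h⟩

/-- The two bits of a field element. -/
private noncomputable def bits (x : F) : Bool × Bool := (exists_bits x).choose

private theorem bits_fe (a b : Bool) : bits (fe (Setup.om : F) a b) = (a, b) := by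
  have h := Setup.fe_inj (exists_bits (fe (Setup.om : F) a b)).choose_spec
  exact Prod.ext h.1.symm h.2.symm

/-- The scalar attached to a field element. -/
private noncomputable def scal (w : V ≃+ V) (x : F) : AddMonoid.End V :=
  bitEnd w (bits x).1 (bits x).2

private theorem scal_fe (w : V ≃+ V) (a b : Bool) :
    scal w (fe (Setup.om : F) a b) = bitEnd w a b := by
  rw [scal, bits_fe]

variable (h2 : ∀ v : V, v + v = 0) (w : V ≃+ V) (hw : ∀ v, w (w (w v)) = v)
  (hfix : ∀ v, w v = v → v = 0)

include h2 hw hfix in
/-- The automorphism satisfies the minimal polynomial of a generator of the units. -/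
theorem sq_eq (v : V) : w (w v) = w v + v := by
  have h : w (w (w v) + w v + v) = w (w v) + w v + v := by
    rw [map_add, map_add, hw]; abel
  have h0 := hfix _ h
  have : w (w v) = -(w v + v) := eq_neg_of_add_eq_zero_left (by rw [← add_assoc]; exact h0)
  rw [this, neg_eq_of_add_eq_zero_left (h2 _)]

private theorem bitEnd_apply (a b : Bool) (v : V) :
    bitEnd w a b v = (bif a then v else 0) + (bif b then w v else 0) := by
  cases a <;> cases b <;> simp [bitEnd, wEnd_apply] <;> rfl

include h2 in
private theorem scal_add (x y : F) : scal w (x + y) = scal w x + scal w y := by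
  obtain ⟨a, b, rfl⟩ := Setup.exists_fe x
  obtain ⟨c, d, rfl⟩ := Setup.exists_fe y
  rw [← fe_xor _ Setup.hom Setup.two, scal_fe, scal_fe, scal_fe]
  refine AddMonoidHom.ext fun v => ?_
  show bitEnd w _ _ v = bitEnd w a b v + bitEnd w c d v
  simp only [bitEnd_apply]
  have e1 : ∀ p q : V, p + (p + q) = q := fun p q => by rw [← add_assoc, h2, zero_add]
  cases a <;> cases b <;> cases c <;> cases d <;>
    simp [h2, e1, add_assoc, add_comm, add_left_comm]

private theorem scal_zero : scal w (0 : F) = 0 := by
  rw [show (0 : F) = fe Setup.om false false by simp [fe, bF], scal_fe]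
  simp [bitEnd]

private theorem scal_one : scal w (1 : F) = 1 := by
  rw [show (1 : F) = fe Setup.om true false by simp [fe, bF], scal_fe]
  simp [bitEnd]

include h2 hw hfix in
private theorem scal_om_mul (y : F) :
    scal w ((Setup.om : F) * y) = wEnd w * scal w y := by
  obtain ⟨a, b, rfl⟩ := Setup.exists_fe y
  rw [mul_om_fe _ Setup.hom Setup.two, scal_fe, scal_fe]
  refine AddMonoidHom.ext fun v => ?_
  show bitEnd w _ _ v = w (bitEnd w a b v)
  have hs := sq_eq h2 w hw hfix v
  have hs' : w v + (v + w v) = v := by rw [add_left_comm, h2, add_zero]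
  cases a <;> cases b <;> simp [bitEnd_apply, hs, hs', h2, add_comm]

/-- The scalar action, as a ring homomorphism. -/
noncomputable def scalHom (h2 : ∀ v : V, v + v = 0) (w : V ≃+ V) (hw : ∀ v, w (w (w v)) = v)
    (hfix : ∀ v, w v = v → v = 0) : F →+* AddMonoid.End V where
  toFun := scal w
  map_one' := scal_one w
  map_zero' := scal_zero w
  map_add' := scal_add h2 w
  map_mul' x y := by
    obtain ⟨⟨a, b⟩, rfl⟩ := exists_bits x
    have hmul : fe (Setup.om : F) a b * y =
        (bif a then y else 0) + (bif b then Setup.om * y else 0) := by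
      cases a <;> cases b <;> simp [fe, bF, add_mul]
    rw [hmul, scal_add h2, scal_fe]
    cases a <;> cases b <;> simp [bitEnd, scal_zero, scal_om_mul h2 w hw hfix, add_mul]

include h2 hw hfix in
theorem scalHom_om (v : V) : scalHom h2 w hw hfix (Setup.om : F) v = w v := by
  show scal w (Setup.om : F) v = _
  rw [show (Setup.om : F) = fe Setup.om false true by simp [fe, bF], scal_fe, bitEnd_apply]
  simp

/-- The embedding of two elements in the field with four. -/
private noncomputable def iota (b : ZMod 2) : F := if b = 0 then 0 else 1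

private theorem iota_add (a b : ZMod 2) : (iota (a + b) : F) = iota a + iota b := by
  rcases (show ∀ z : ZMod 2, z = 0 ∨ z = 1 by decide) a with rfl | rfl <;>
    rcases (show ∀ z : ZMod 2, z = 0 ∨ z = 1 by decide) b with rfl | rfl <;>
    simp [iota, show (1 : ZMod 2) + 1 = 0 by decide, Setup.two]

private theorem iota_inj {a b : ZMod 2} (h : (iota a : F) + Setup.om * iota b = 0) :
    a = 0 ∧ b = 0 := by
  have h0 := Setup.om_ne_zero (F := F)
  have h1 := Setup.om_ne_one (F := F)
  rcases (show ∀ z : ZMod 2, z = 0 ∨ z = 1 by decide) a with rfl | rfl <;>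
    rcases (show ∀ z : ZMod 2, z = 0 ∨ z = 1 by decide) b with rfl | rfl <;>
    simp [iota, h0] at h ⊢
  exact h1 (by linear_combination h - Setup.two (F := F))

/-- Coordinates: the space is the standard hermitian space and isometries commuting with the
automorphism are its unitary matrices. -/
theorem exists_coords {V : Type*} [AddCommGroup V] [Finite V] (hcard : Nat.card V = 2 ^ 12)
    (h2 : ∀ v : V, v + v = 0) (q : V → ZMod 2)
    (hquad : ∀ u v w : V, q (u + v + w) + q (u + v) + q (u + w) + q (v + w) + q u + q v + q w = 0)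
    (hnd : ∀ u : V, (∀ v, q (u + v) = q u + q v) → u = 0) (w : V ≃+ V)
    (hw : ∀ v, w (w (w v)) = v) (hfix : ∀ v, w v = v → v = 0) (hq : ∀ v, q (w v) = q v)
    (F : Type) [Setup F] :
    ∃ e : (Fin 6 → F) ≃+ V, (∀ x, e ((Setup.om : F) • x) = w (e x)) ∧
      (∀ x, q (e x) = 0 ↔ Cfsg.hermForm 6 F 2 x x = 0) ∧
      (∀ f : V ≃+ V, (∀ v, f (w v) = w (f v)) → (∀ v, q (f v) = q v) →
        ∃ g : Matrix (Fin 6) (Fin 6) F,
          (∀ x y, Cfsg.hermForm 6 F 2 (g *ᵥ x) (g *ᵥ y) = Cfsg.hermForm 6 F 2 x y) ∧
          ∀ x, e (g *ᵥ x) = f (e x)) := by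
  classical
  letI : Module F V := Module.compHom V (scalHom (F := F) h2 w hw hfix)
  have hom_smul : ∀ v : V, (Setup.om : F) • v = w v := scalHom_om h2 w hw hfix
  have z2 : ∀ a : ZMod 2, a + a = 0 := by decide
  have q0 : q 0 = 0 := by
    have h := hquad 0 0 0
    simp only [add_zero] at h
    simpa [z2] using h
  let P : V → V → ZMod 2 := fun u v => q (u + v) + q u + q v
  have P_add : ∀ u u' v, P (u + u') v = P u v + P u' v := fun u u' v => by
    have h := hquad u u' v
    simp only [P]
    revert h
    generalize q (u + u' + v) = a, q (u + u') = b, q (u + v) = c, q (u' + v) = d,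
      q u = e, q u' = f, q v = g
    revert a b c d e f g
    decide
  have P_comm : ∀ u v, P u v = P v u := fun u v => by simp only [P]; rw [add_comm u v]; abel
  have P_self : ∀ u, P u u = 0 := fun u => by simp only [P, h2, q0, zero_add, z2]
  have P_w : ∀ u v, P (w u) (w v) = P u v := fun u v => by simp only [P, ← map_add, hq]
  have sq : ∀ v, w (w v) = w v + v := sq_eq h2 w hw hfix
  have P_flip : ∀ u v, P (w v) u = P (w u) v + P u v := fun u v => by
    rw [P_comm, ← P_w u, ← P_w (w u), sq, hw, P_add]
  let hr : V → V → F := fun u v => iota (P (w u) v + P u v) + Setup.om * iota (P u v)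
  have hr_add : ∀ u u' v, hr (u + u') v = hr u v + hr u' v := fun u u' v => by
    simp only [hr, map_add, P_add, iota_add]; ring
  have hr_om : ∀ u v, hr (w u) v = Setup.om * hr u v := fun u v => by
    simp only [hr, sq, P_add, iota_add]
    linear_combination (iota (P (w u) v) : F) * Setup.two (F := F)
      - (iota (P u v) : F) * Setup.hom (F := F)
      - (iota (P u v) : F) * Setup.om * Setup.two (F := F)
  have iota_sq : ∀ a, (iota a : F) ^ 2 = iota a := fun a => by
    rcases (show ∀ z : ZMod 2, z = 0 ∨ z = 1 by decide) a with rfl | rfl <;> simp [iota]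
  haveI : CharP F 2 := by
    refine (CharTwo.of_one_ne_zero_of_two_eq_zero one_ne_zero ?_)
    rw [← one_add_one_eq_two, Setup.two]
  have hr_conj : ∀ u v, hr v u = hr u v ^ 2 := fun u v => by
    simp only [hr]
    rw [P_flip, P_comm v u]
    simp only [iota_add, CharTwo.add_sq, mul_pow, iota_sq]
    linear_combination (-(iota (P u v) : F)) * Setup.hom (F := F)
  have hr_self : ∀ v, hr v v = iota (q v) := fun v => by
    simp only [hr, P_self, add_zero, iota, if_pos, mul_zero]
    have : P (w v) v = q v := by
      simp only [P, ← sq, hq]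
      generalize q v = a
      revert a; decide
    rw [this]
  have hr_zero : ∀ v, hr 0 v = 0 := fun v => by
    have h := hr_add 0 0 v
    rw [add_zero] at h
    exact left_eq_add.1 h
  have hr_smul : ∀ (c : F) u v, hr (c • u) v = c * hr u v := fun c u v => by
    obtain ⟨a, b, rfl⟩ := Setup.exists_fe c
    cases a <;> cases b <;>
      simp [fe, bF, add_smul, hr_add, hom_smul, hr_om, hr_zero, add_mul]
  let σ : F →+* F := frobenius F 2
  have hσ : ∀ a, σ a = a ^ 2 := fun a => rfl
  let B : V →ₛₗ[σ] V →ₗ[F] F :=
    LinearMap.mk₂'ₛₗ σ (RingHom.id F) (fun u v => hr v u)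
      (fun u u' v => by
        simp only [hr_conj u v, hr_conj u' v, hr_conj (u + u') v, hr_add, CharTwo.add_sq])
      (fun c u v => by
        simp only [hr_conj u v, hr_conj (c • u) v, hr_smul, hσ, mul_pow, smul_eq_mul])
      (fun u v v' => hr_add v v' u) (fun c u v => by simp [hr_smul])
  have hB : H3.IsHerm B 2 := by
    refine ⟨?_, hσ, fun x y => (hr_conj y x).symm, fun x hx => hnd x fun v => ?_⟩
    · rw [Setup.card (F := F)]; rfl
    · have h : hr x v = 0 := by rw [hr_conj v x]; simp [show hr v x = 0 from hx v]
      have hP : q (x + v) + q x + q v = 0 := (iota_inj h).2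
      revert hP
      generalize q (x + v) = a, q x = b, q v = c
      revert a b c; decide
  have hdim : Module.finrank F V = 6 := by
    have h := Module.natCard_eq_pow_finrank (K := F) (V := V)
    rw [hcard, Nat.card_eq_fintype_card, Setup.card (F := F),
      show (2 : ℕ) ^ 12 = 4 ^ 6 by norm_num] at h
    exact (Nat.pow_right_injective (le_refl 2 |>.trans (by norm_num)) h).symm
  obtain ⟨b, hb⟩ := hB.exists_orth_basis hdim
  let el : (Fin 6 → F) ≃ₗ[F] V := b.equivFun.symm
  have hform : ∀ x y, hr (el x) (el y) = Cfsg.hermForm 6 F 2 x y := fun x y => by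
    show B (el y) (el x) = _
    have he : ∀ z, el z = ∑ i, z i • b i := fun z => by simp [el, Module.Basis.equivFun_symm_apply]
    rw [he y, he x]
    simp only [map_sum, LinearMap.sum_apply, LinearMap.map_smulₛₗ, LinearMap.smul_apply,
      RingHom.id_apply, smul_eq_mul, hσ, hb _ _, Cfsg.hermForm]
    simp [mul_comm]
  refine ⟨el.toAddEquiv, fun x => ?_, fun x => ?_, fun f hfw hfq => ?_⟩
  · show el (_ • x) = w (el x)
    rw [el.map_smul, hom_smul]
  · show q (el x) = 0 ↔ _
    rw [← hform, hr_self, iota]
    split_ifs with h <;> simp [h]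
  · have hf_smul : ∀ (c : F) v, f (c • v) = c • f v := fun c v => by
      obtain ⟨a, b, rfl⟩ := Setup.exists_fe c
      cases a <;> cases b <;> simp [fe, bF, add_smul, hom_smul, hfw]
    let fl : V →ₗ[F] V := { toFun := f, map_add' := f.map_add, map_smul' := hf_smul }
    let L : (Fin 6 → F) →ₗ[F] (Fin 6 → F) :=
      el.symm.toLinearMap ∘ₗ fl ∘ₗ el.toLinearMap
    refine ⟨LinearMap.toMatrix' L, fun x y => ?_, fun x => ?_⟩
    · simp only [LinearMap.toMatrix'_mulVec, L, LinearMap.comp_apply, LinearEquiv.coe_coe]
      rw [← hform, ← hform x y, el.apply_symm_apply, el.apply_symm_apply]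
      simp only [hr, fl, LinearMap.coe_mk, AddHom.coe_mk, ← hfw, P, ← map_add, hfq]
    · show el _ = f (el x)
      simp [LinearMap.toMatrix'_mulVec, L, fl]

end Cfsg.Agent.H66.LargeFischer
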